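import Groth.Agent.PCohD.StalkExt
import Groth.Agent.PCohD.FTFP
import Groth.Agent.LimTop.TensorQC
import Groth.Agent.KFlat.Pull
import Groth.Agent.LFFrame.Basic
import Mathlib.RingTheory.LocalRing.Module

/-!
# Locally split monomorphisms to finite locally free modules are detected on stalks and after pullback
-/

set_option autoImplicit false

universe u

open CategoryTheory Limits AlgebraicGeometry TensorProduct
open Groth.Agent.PCohD.StalkExt (stRes exists_lifts Lifts stalk_sq exists_map_eq_zero)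

noncomputable section

namespace Groth.Agent.SplitMono3

variable {X Z : Scheme.{u}}

/-- A natural isomorphism transports retractions. -/
theorem isSplitMono_of_natIso {C D : Type*} [Category C] [Category D] {F G : C ⥤ D} (e : F ≅ G)
    {A B : C} (u : A ⟶ B) (h : IsSplitMono (F.map u)) : IsSplitMono (G.map u) :=
  ⟨⟨{ retraction := e.inv.app B ≫ retraction (F.map u) ≫ e.hom.app A
      id := by rw [← Category.assoc, e.inv.naturality, Category.assoc, IsSplitMono.id_assoc, Iso.inv_hom_id_app] }⟩⟩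

/-- A fully faithful functor reflects retractions. -/
theorem isSplitMono_reflect {C D : Type*} [Category C] [Category D] (E : C ⥤ D) [E.Full] [E.Faithful]
    {A B : C} (u : A ⟶ B) (h : IsSplitMono (E.map u)) : IsSplitMono u :=
  ⟨⟨{ retraction := E.preimage (retraction (E.map u))
      id := E.map_injective (by rw [E.map_comp, E.map_preimage, IsSplitMono.id, E.map_id]) }⟩⟩

/-- A retraction on stalks. -/
def SplitAt {A B : X.Modules} (u : A ⟶ B) (x : X) : Prop :=
  IsSplitMono ((DerSch.stalkFunctor X x).map u)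

/-- A retraction near a point. -/
def SplitNear {A B : X.Modules} (u : A ⟶ B) (x : X) : Prop :=
  ∃ U : X.Opens, x ∈ U ∧ ∃ r : (Scheme.Modules.pullback U.ι).obj B ⟶ (Scheme.Modules.pullback U.ι).obj A,
    (Scheme.Modules.pullback U.ι).map u ≫ r = 𝟙 _

theorem extend_of_pullback (q : Z ⟶ X) (z : Z) {A B : X.Modules} (u : A ⟶ B)
    (h : SplitAt ((Scheme.Modules.pullback q).map u) z) :
    IsSplitMono ((ModuleCat.extendScalars.{u, u, u} (q.stalkMap z).hom).map
      ((DerSch.stalkFunctor X (q z)).map u)) :=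
  isSplitMono_of_natIso (KFlat.Pull.stalkPullIso q z) u h

theorem splitAt_of_near {A B : X.Modules} (u : A ⟶ B) (x : X) (h : SplitNear u x) : SplitAt u x := by
  obtain ⟨U, hx, r, hr⟩ := h
  let w : (U : Scheme.{u}) := ⟨x, hx⟩
  haveI : IsSplitMono ((Scheme.Modules.pullback U.ι).map u) := ⟨⟨{ retraction := r, id := hr }⟩⟩
  haveI := PCohD.StalkExt.isEquivalence_extend (U.ι.stalkMap w).hom
    (ConcreteCategory.bijective_of_isIso (U.ι.stalkMap w))
  exact isSplitMono_reflect (ModuleCat.extendScalars.{u, u, u} (U.ι.stalkMap w).hom) _ (extend_of_pullback U.ι w u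
    (inferInstanceAs (IsSplitMono ((DerSch.stalkFunctor _ w).map ((Scheme.Modules.pullback U.ι).map u)))))

theorem splitNear_pullback (q : Z ⟶ X) {A B : X.Modules} (u : A ⟶ B) (z : Z) (h : SplitNear u (q z)) :
    SplitNear ((Scheme.Modules.pullback q).map u) z := by
  obtain ⟨U, hx, r, hr⟩ := h
  haveI : IsSplitMono ((Scheme.Modules.pullback U.ι).map u) := ⟨⟨{ retraction := r, id := hr }⟩⟩
  let e : Scheme.Modules.pullback U.ι ⋙ Scheme.Modules.pullback (q ∣_ U) ≅
      Scheme.Modules.pullback q ⋙ Scheme.Modules.pullback (q ⁻¹ᵁ U).ι :=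
    Scheme.Modules.pullbackComp (q ∣_ U) U.ι ≪≫ Scheme.Modules.pullbackCongr (morphismRestrict_ι q U) ≪≫
      (Scheme.Modules.pullbackComp (q ⁻¹ᵁ U).ι q).symm
  have hs := isSplitMono_of_natIso e u
    (inferInstanceAs (IsSplitMono ((Scheme.Modules.pullback (q ∣_ U)).map ((Scheme.Modules.pullback U.ι).map u))))
  exact ⟨q ⁻¹ᵁ U, hx, @retraction _ _ _ _ _ hs, @IsSplitMono.id _ _ _ _ _ hs⟩

section Algebra

open IsLocalRing

/-- A map which becomes a split injection over a local algebra is injective modulo the maximal ideal. -/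
theorem injective_residue_of_split {R S : Type u} [CommRing R] [CommRing S] [IsLocalRing R] [IsLocalRing S]
    [Algebra R S] [IsLocalHom (algebraMap R S)] {M N : Type u} [AddCommGroup M] [Module R M]
    [AddCommGroup N] [Module R N] (g : M →ₗ[R] N) (ρ : S ⊗[R] N →+ S ⊗[R] M)
    (hρs : ∀ (r : R) t, ρ (r • t) = r • ρ t) (hρ : ∀ m : M, ρ (1 ⊗ₜ g m) = 1 ⊗ₜ m) :
    Function.Injective (g.lTensor (ResidueField R)) := by
  let ρ' : S ⊗[R] N →ₗ[R] S ⊗[R] M := { ρ with map_smul' := hρs }
  let res : S →ₗ[R] ResidueField S := (IsScalarTower.toAlgHom R S (ResidueField S)).toLinearMap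
  let ι : ResidueField R →+* ResidueField S := ResidueField.map (algebraMap R S)
  have hι : ∀ r : R, ι (algebraMap R (ResidueField R) r) = algebraMap R (ResidueField S) r := fun r => rfl
  let ι' : ResidueField R →ₗ[R] ResidueField S :=
    { toFun := ι
      map_add' := map_add _
      map_smul' := fun r a => by
        simp only [RingHom.id_apply, Algebra.smul_def, map_mul, hι] }
  let mulBy : ResidueField S →ₗ[R] (ResidueField S ⊗[R] M →ₗ[R] ResidueField S ⊗[R] M) :=
    { toFun := fun c => (LinearMap.mulLeft R c).rTensor M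
      map_add' := fun a b => by
        refine TensorProduct.ext' fun d m => ?_
        simp only [LinearMap.rTensor_tmul, LinearMap.add_apply, LinearMap.mulLeft_apply, add_mul, add_tmul]
      map_smul' := fun r a => by
        refine TensorProduct.ext' fun d m => ?_
        simp only [LinearMap.rTensor_tmul, LinearMap.smul_apply, LinearMap.mulLeft_apply, smul_mul_assoc,
          RingHom.id_apply, smul_tmul'] }
  let Ψ : N →ₗ[R] ResidueField S ⊗[R] M := res.rTensor M ∘ₗ ρ' ∘ₗ TensorProduct.mk R S N 1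
  let T : ResidueField S ⊗[R] N →ₗ[R] ResidueField S ⊗[R] M :=
    TensorProduct.lift ((LinearMap.lcomp R _ Ψ) ∘ₗ mulBy)
  have hT : ∀ t, T (g.lTensor (ResidueField S) t) = t := by
    intro t
    induction t using TensorProduct.induction_on with
    | zero => simp
    | add a b ha hb => rw [map_add, map_add, ha, hb]
    | tmul c m =>
      show (LinearMap.mulLeft R c).rTensor M (res.rTensor M (ρ (1 ⊗ₜ g m))) = c ⊗ₜ m
      rw [hρ, LinearMap.rTensor_tmul, LinearMap.rTensor_tmul, LinearMap.mulLeft_apply]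
      show (c * residue S 1) ⊗ₜ m = c ⊗ₜ m
      rw [map_one, mul_one]
  obtain ⟨π, hπ⟩ : ∃ π : ResidueField S →ₗ[R] ResidueField R, π ∘ₗ ι' = LinearMap.id := by
    obtain ⟨p, hp⟩ := (Algebra.linearMap (ResidueField R) (ResidueField S)).exists_leftInverse_of_injective
      (LinearMap.ker_eq_bot.2 (algebraMap (ResidueField R) (ResidueField S)).injective)
    refine ⟨p.restrictScalars R, LinearMap.ext fun a => LinearMap.congr_fun hp a⟩
  intro a b hab
  have hinj : Function.Injective (ι'.rTensor M) := fun a b h => by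
    have := congrArg (π.rTensor M) h
    rwa [← LinearMap.comp_apply, ← LinearMap.comp_apply, ← LinearMap.rTensor_comp, hπ, LinearMap.rTensor_id] at this
  have hnat : ∀ t : ResidueField R ⊗[R] M,
      ι'.rTensor N (g.lTensor (ResidueField R) t) = g.lTensor (ResidueField S) (ι'.rTensor M t) := by
    intro t
    induction t using TensorProduct.induction_on with
    | zero => simp
    | tmul c m => rfl
    | add a b ha hb => simp only [map_add, ha, hb]
  refine hinj ?_
  rw [← hT (ι'.rTensor M a), ← hT (ι'.rTensor M b), ← hnat, ← hnat, hab]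

end Algebra

/-- Being split at a point descends along any morphism. -/
theorem splitAt_of_pullback (q : Z ⟶ X) (z : Z) {A B : X.Modules} [A.IsQuasicoherent] (hA : CohB1.IsFT A) (hB : FlatMod.IsFinLocFree B)
    (u : A ⟶ B) (h : SplitAt ((Scheme.Modules.pullback q).map u) z) : SplitAt u (q z) := by
  haveI : A.IsFiniteType := hA
  haveI : Module.Finite (X.presheaf.stalk (q z)) (A.presheaf.stalk (q z)) := LimTop.TensorQC.finite_stalk A (q z)
  obtain ⟨U, n, e, hzU, he⟩ := LFFrame.exists_isFrame_of_isFinLocFree hB (q z)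
  let E : (Fin n → X.presheaf.stalk (q z)) ≃ₗ[X.presheaf.stalk (q z)] B.presheaf.stalk (q z) :=
    LinearEquiv.ofBijective (LFFrame.stalkComb B e (q z) hzU) (he.stalkComb_bijective (q z) hzU)
  haveI : Module.Finite (X.presheaf.stalk (q z)) (B.presheaf.stalk (q z)) := Module.Finite.equiv E
  haveI : Module.Free (X.presheaf.stalk (q z)) (B.presheaf.stalk (q z)) := Module.Free.of_equiv E
  letI : Algebra (X.presheaf.stalk (q z)) (Z.presheaf.stalk z) := (q.stalkMap z).hom.toAlgebra
  haveI : IsLocalHom (algebraMap (X.presheaf.stalk (q z)) (Z.presheaf.stalk z)) :=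
    inferInstanceAs (IsLocalHom (q.stalkMap z).hom)
  let g : A.presheaf.stalk (q z) →ₗ[X.presheaf.stalk (q z)] B.presheaf.stalk (q z) :=
    ((DerSch.stalkFunctor X (q z)).map u).hom
  haveI := extend_of_pullback q z u h
  let r := retraction ((ModuleCat.extendScalars.{u, u, u} (q.stalkMap z).hom).map
    ((DerSch.stalkFunctor X (q z)).map u))
  let ρ : Z.presheaf.stalk z ⊗[X.presheaf.stalk (q z)] B.presheaf.stalk (q z) →+
      Z.presheaf.stalk z ⊗[X.presheaf.stalk (q z)] A.presheaf.stalk (q z) := r.hom.toAddMonoidHom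
  have hinj := injective_residue_of_split (S := Z.presheaf.stalk z) g ρ
    (fun a t => ((congrArg ρ (IsScalarTower.algebraMap_smul (Z.presheaf.stalk z) a t).symm).trans
      (r.hom.map_smul _ _)).trans (IsScalarTower.algebraMap_smul (Z.presheaf.stalk z) a (ρ t)))
    (fun m => congr($(IsSplitMono.id ((ModuleCat.extendScalars.{u, u, u} (q.stalkMap z).hom).map
      ((DerSch.stalkFunctor X (q z)).map u))) ((1 : Z.presheaf.stalk z) ⊗ₜ m)))
  obtain ⟨l, hl⟩ := (IsLocalRing.split_injective_iff_lTensor_residueField_injective g).2 hinj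
  exact ⟨⟨{ retraction := ModuleCat.ofHom l, id := ModuleCat.hom_ext hl }⟩⟩

/-- A retraction on a stalk extends nearby. -/
theorem splitNear_of_splitAt {A B : X.Modules} (hA : CohB1.IsFT A) (hB : FlatMod.IsFinLocFree B)
    (u : A ⟶ B) (x : X) (h : SplitAt u x) : SplitNear u x := by
  obtain ⟨g, hg⟩ : ∃ g, (DerSch.stalkFunctor.{u} X x).map u ≫ g = 𝟙 _ := ⟨_, @IsSplitMono.id _ _ _ _ _ h⟩
  obtain ⟨V, hxV, l, hl⟩ := exists_lifts hB x g
  let v : (V : Scheme.{u}) := ⟨x, hxV⟩
  have hl' := Lifts.stalk_map v hl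
  have hz := stalk_sq V.ι v (P := A) (P' := B) (M := A) (M' := A) u (𝟙 A) (𝟙 _)
    g ((congrArg (𝟙 _ ≫ ·) (CategoryTheory.Functor.map_id _ A)).trans ((Category.comp_id _).trans hg.symm))
    (𝟙 _) l ((CategoryTheory.Functor.map_id _ _).trans ((Iso.hom_inv_id_app (stRes V.ι v) A).symm.trans
      (congrArg ((stRes V.ι v).hom.app A ≫ ·) ((Category.id_comp _).symm.trans
        (congrArg (fun k => k ≫ (stRes V.ι v).inv.app A)
          (CategoryTheory.Functor.map_id (ModuleCat.extendScalars.{u, u, u} (V.ι.stalkMap v).hom) ((DerSch.stalkFunctor.{u} X (V.ι v)).obj A)).symm))))) hl'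
  obtain ⟨V₁, m, p₀, hxV₁, hp₀⟩ := PCohD.FTFP.locGen_of_isFT hA x
  let W : (V : Scheme.{u}).Opens := V.ι ⁻¹ᵁ V₁
  let a : (W : Scheme.{u}) ⟶ V₁.toScheme := V.ι ∣_ V₁
  haveI : Epi ((Scheme.Modules.restrictFunctor a).map p₀) := inferInstance
  let eW : Scheme.Modules.restrictFunctor V₁.ι ⋙ Scheme.Modules.restrictFunctor a ≅
      Scheme.Modules.restrictFunctor V.ι ⋙ Scheme.Modules.restrictFunctor W.ι :=
    (Scheme.Modules.restrictFunctorComp a V₁.ι).symm ≪≫
      Scheme.Modules.restrictFunctorCongr (morphismRestrict_ι V.ι V₁) ≪≫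
      Scheme.Modules.restrictFunctorComp W.ι V.ι
  let p : FlatMod.freeMod (W : Scheme.{u}) m ⟶ (A.restrict V.ι).restrict W.ι :=
    (PCohD.FTFP.restrFree a m).inv ≫ (Scheme.Modules.restrictFunctor a).map p₀ ≫ eW.hom.app A
  haveI hp : Epi p := inferInstance
  let δ := 𝟙 (A.restrict V.ι) - (Scheme.Modules.restrictFunctor V.ι).map u ≫ l
  let w : (W : Scheme.{u}) := ⟨v, hxV₁⟩
  have hδ : (DerSch.stalkFunctor.{u} (W : Scheme.{u}) w).map ((Scheme.Modules.restrictFunctor W.ι).map δ) = 0 := by
    have : (ModuleCat.extendScalars.{u, u, u} (W.ι.stalkMap w).hom).Additive :=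
      (ModuleCat.extendRestrictScalarsAdj.{u, u, u} (W.ι.stalkMap w).hom).left_adjoint_additive
    have h1 := (stRes W.ι w).hom.naturality δ
    simp only [Functor.comp_map] at h1
    rw [show (DerSch.stalkFunctor.{u} (V : Scheme.{u}) (W.ι w)).map δ = 0 from ?_] at h1
    rotate_left
    · rw [CategoryTheory.Functor.map_id, Category.comp_id] at hz; exact hz
    rw [(ModuleCat.extendScalars.{u, u, u} (W.ι.stalkMap w).hom).map_zero, comp_zero] at h1
    have h2 := congrArg (fun k => k ≫ (stRes.{u} W.ι w).inv.app (A.restrict V.ι)) h1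
    simp only [Category.assoc] at h2
    rw [Iso.hom_inv_id_app, zero_comp] at h2
    exact (Category.comp_id _).symm.trans h2
  obtain ⟨W₁, hwW₁, hW₁⟩ := exists_map_eq_zero
    (fun y => ⟨⊤, m, trivial, ⟨PCohD.FTFP.restrFree (⊤ : (W : Scheme.{u}).Opens).ι m⟩⟩)
    (p ≫ (Scheme.Modules.restrictFunctor W.ι).map δ) w
    (by rw [Functor.map_comp, hδ, comp_zero])
  rw [Functor.map_comp] at hW₁
  haveI : Epi ((Scheme.Modules.restrictFunctor W₁.ι).map p) := inferInstance
  have hzero : (Scheme.Modules.restrictFunctor W₁.ι).map ((Scheme.Modules.restrictFunctor W.ι).map δ) = 0 :=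
    (cancel_epi ((Scheme.Modules.restrictFunctor W₁.ι).map p)).1 (hW₁.trans comp_zero.symm)
  have hid : (Scheme.Modules.restrictFunctor W₁.ι).map ((Scheme.Modules.restrictFunctor W.ι).map
      ((Scheme.Modules.restrictFunctor V.ι).map u ≫ l)) = 𝟙 _ := by
    rw [show (Scheme.Modules.restrictFunctor V.ι).map u ≫ l = 𝟙 _ - δ from (sub_sub_cancel _ _).symm,
      Functor.map_sub, Functor.map_sub, hzero, sub_zero, CategoryTheory.Functor.map_id,
      CategoryTheory.Functor.map_id]
  let j : W₁.toScheme ⟶ X := W₁.ι ≫ W.ι ≫ V.ι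
  let k := j.isoOpensRange.inv
  let F := Scheme.Modules.restrictFunctor V.ι ⋙ Scheme.Modules.restrictFunctor W.ι ⋙
    Scheme.Modules.restrictFunctor W₁.ι ⋙ Scheme.Modules.restrictFunctor k
  haveI : IsSplitMono (F.map u) := ⟨⟨{
    retraction := (Scheme.Modules.restrictFunctor k).map ((Scheme.Modules.restrictFunctor W₁.ι).map
      ((Scheme.Modules.restrictFunctor W.ι).map l))
    id := by
      simp only [F, Functor.comp_map, ← Functor.map_comp]
      rw [hid, CategoryTheory.Functor.map_id]
      rfl }⟩⟩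
  let e : F ≅ Scheme.Modules.pullback j.opensRange.ι :=
    Functor.isoWhiskerLeft (Scheme.Modules.restrictFunctor V.ι)
      (Functor.isoWhiskerLeft (Scheme.Modules.restrictFunctor W.ι)
        (Scheme.Modules.restrictFunctorComp k W₁.ι).symm ≪≫
        (Scheme.Modules.restrictFunctorComp (k ≫ W₁.ι) W.ι).symm) ≪≫
      (Scheme.Modules.restrictFunctorComp ((k ≫ W₁.ι) ≫ W.ι) V.ι).symm ≪≫
      Scheme.Modules.restrictFunctorCongr (show ((k ≫ W₁.ι) ≫ W.ι) ≫ V.ι = j.opensRange.ι by
        rw [Category.assoc, Category.assoc]; exact j.isoOpensRange_inv_comp) ≪≫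
      Scheme.Modules.restrictFunctorIsoPullback j.opensRange.ι
  have hsplit := isSplitMono_of_natIso e u ‹_›
  exact ⟨j.opensRange, ⟨⟨w, hwW₁⟩, rfl⟩, retraction ((Scheme.Modules.pullback j.opensRange.ι).map u),
    IsSplitMono.id _⟩

end Groth.Agent.SplitMono3
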